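import Cfsg.Agent.LV.Sm.Fin
import Cfsg.Agent.LV.Red.Main
import Cfsg.Agent.KZ.DatX.Main

/-!
# LV, the rows of `G₂(q)`, `³D₄(q)` for `l = 5` and of `PSp₄(q)` for `l = 3` (helper22)

`row_g2`, `row_tw4`, `hz_psp4`.
-/

set_option autoImplicit false

namespace Cfsg.Agent.LV.Sm

open Cfsg Cfsg.Lie Cfsg.Agent.DL Cfsg.Agent.DL.Ex Cfsg.Agent.KZ.Lie Cfsg.Agent.KZ.DatX Cfsg.Agent.KZ.G2
  Cfsg.Agent.Nodes.RGDChev Cfsg.Agent.ChevalleyStructure

/-- height zero goes down to the normal subgroup -/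
theorem hz_of_over {Y S : Type} [Group Y] [Group S] {F : MulAut Y} {G T : Subgroup Y} {ι : S →* Y} {d l : ℕ}
    (O : Over F G T ι d) [Finite ↥(GF F G)] {M : Ideal AlgInt} (hM : IsPModular l M) (h : HZ0 l M ↥(GF F G)) :
    HZ0 l M S := by
  have : Fact l.Prime := ⟨hM.1⟩
  have := O.normal
  exact (h.normal hM O.hom.range).of_equiv (MonoidHom.ofInjective O.hom_inj).symm

theorem Ek.hz {C : ChevalleyDatum} {r N l : ℕ} {W : CoxeterMatrix (Fin r)} {P : FM} (K : Ek C r N P l) {hp : IsType C r W}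
    (hN : Nat.card W.Group = N) {p e : ℕ} [Fact p.Prime] {k : Type} [Field k] [CharP k p] [IsAlgClosed k]
    {Mx : Matrix (Fin r) (Fin r) ℤ} (X : XF hp p k Mx) (h : Mx = (p : ℤ) ^ e • toM r P) {S : Type} [Group S]
    {ι : S →* ↥(C.group k)} {d : ℕ} {T : Subgroup ↥(C.group k)} (O : Over X.F ⊤ T ι d) {M : Ideal AlgInt} (hM : IsPModular l M)
    (hl : l ≠ p) : HZ0 l M S := by
  have := X.finite
  have := Fintype.ofFinite ↥(GF X.F ⊤)
  refine hz_of_over O hM ((K.mm X hN).hz hM hl (fun e => hl ?_) h)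
  exact (Nat.prime_dvd_prime_iff_eq hM.1 Fact.out).1
    (Int.natCast_dvd_natCast.1 ((Nat.prime_iff_prime_int.1 hM.1).dvd_of_dvd_pow e))

/-- the split groups -/
theorem Ek.hz_split {C : ChevalleyDatum} {r N l : ℕ} {W : CoxeterMatrix (Fin r)} (K : Ek C r N oneF l) (hp : IsType C r W)
    (hN : Nat.card W.Group = N) {d : ℕ} {B : Fin r → Fin r → ℤ} (hB : H129.TorusChar.InvC C r d B) (F : Type) [Field F]
    [Fintype F] (hF : ¬ l ∣ Fintype.card F) {M : Ideal AlgInt} (hM : IsPModular l M) : HZ0 l M ↥(C.group F) := by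
  obtain ⟨p, e, _, _, _, he, h1, -⟩ := exists_closure F
  exact K.hz hN (xfS hp p (locFin_closure F) he) (e := e) (by rw [toM_one])
    (over_split' hp (algebraMap F (AlgebraicClosure F)) h1 hB) hM fun h => hF (h1 ▸ h ▸ dvd_pow_self l he.ne')

/-- **the row of `G₂(q)`** -/
theorem row_g2 : Row 5 (ChevX 5 chevG2 3) := fun _ hM _ _ _ _ _ ⟨F, _, _, h1, _, ⟨i⟩⟩ _ _ _ =>
  (ekG.hz_split hpG2 card_W_G2 H129.TorusChar.invC_G2 F h1 hM).of_equiv i.symm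

/-- **`PSp₄(q)`** -/
theorem hz_psp4 (F : Type) [Field F] [Fintype F] (hF : ¬ 3 ∣ Fintype.card F) {M : Ideal AlgInt} (hM : IsPModular 3 M) :
    HZ0 3 M (PSp 2 F) := by
  obtain ⟨i⟩ := B2Sp4.chevB2_equiv_PSp F
  exact (ekB.hz_split hpB2 card_W_B2 invC_B2 F hF hM).of_equiv i

/-- **the row of `³D₄(q)`** -/
theorem row_tw4 : Row 5 (TwD4X 5) := fun _ hM _ _ _ _ _ ⟨K, _, _, q, h1, hq, hK, ⟨i⟩⟩ _ _ _ => by
  obtain ⟨p, e, _, _, -, he, rfl, -⟩ := Tw.setup hq three_ne_zero hK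
  obtain ⟨k, _, _, _, X, ⟨s⟩⟩ := (has_3D4 hK).congr i
  exact ekD.hz card_W_D4 X (e := e) (by rw [toM_pD]) s.ov hM fun h =>
    h1 (hK ▸ h ▸ (dvd_pow_self 5 he.ne').trans (dvd_pow_self _ three_ne_zero))

end Cfsg.Agent.LV.Sm
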