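import Cfsg.Agent.LV.Blk.Main
import Cfsg.Agent.KZ.TF.MixA
import Cfsg.Agent.KZ.Mts.Main

/-!
# LV, small relative Weyl groups: the criterion (helper22)

`Sw D l w₀` : the relative Weyl group has order less than `l ^ 2` and prime to `l`, and the stabiliser in it of a nontrivial
label of `l`-power order has order at most `2`.  `Sw.hz` : height zero.
-/

set_option autoImplicit false
set_option linter.unusedSectionVars false

namespace Cfsg.Agent.LV.Sm

open Cfsg Cfsg.Agent.DL Cfsg.Agent.DL.PP Cfsg.Agent.KZ Cfsg.Agent.KZ.Lie Cfsg.Agent.Characters.Core Matrix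
  Cfsg.Agent.LV.Blk ComplexConjugate

section Abs

variable {H : Type} [Group H] [Fintype H]

theorem ip_sign {χ : IrrCharacter H} {y : H → ℂ} (hy : IsGeneralizedCharacter H y) (h1 : classInner y y = 1)
    (h2 : classInner χ.1 y ≠ 0) (z : H → ℂ) : classInner χ.1 z = classInner y z ∨ classInner χ.1 z = -classInner y z := by
  rcases isIrr_of_generalized hy h1 with h | h
  · left
    by_contra h3
    exact h2 (classInner_irr_ne χ.2 h fun e => h3 (by rw [e]))
  · right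
    by_contra h3
    refine h2 ?_
    rw [← neg_eq_zero, ← classInner_neg_right]
    exact classInner_irr_ne χ.2 h fun e => h3 (by rw [e, classInner_neg_left])

theorem sq_le {χ : IrrCharacter H} {y : H → ℂ} (hy : IsGeneralizedCharacter H y) {n : ℕ} (h1 : classInner y y = n) {m : ℤ}
    (h2 : classInner χ.1 y = m) : m ^ 2 ≤ n := by
  classical
  have := finite_irr (G := H)
  have := Fintype.ofFinite (IrrCharacter H)
  have h3 := G2.sum_le_univ (G2.mu y) {χ}
  rwa [Finset.sum_singleton, G2.sum_mu_sq hy h1, G2.mu_eq h2] at h3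

theorem eq_add {r a b : H → ℂ} (h : classInner r r = 2) (ha : classInner a a = 1) (hb : classInner b b = 1)
    (hab : classInner a b = 0) (har : classInner a r = 1) (hbr : classInner b r = 1) : r = a + b := by
  have e1 : classInner b a = 0 := by rw [← classInner_conj_symm, hab, map_zero]
  have e2 : classInner r a = 1 := by rw [← classInner_conj_symm, har, map_one]
  have e3 : classInner r b = 1 := by rw [← classInner_conj_symm, hbr, map_one]
  refine sub_eq_zero.1 (classInner_self_eq_zero ?_)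
  simp only [classInner_sub_left, classInner_sub_right, classInner_add_left, classInner_add_right, h, ha, hb, hab, har,
    hbr, e1, e2, e3]
  norm_num

end Abs

variable {p : ℕ} [Fact p.Prime] {k : Type} [Field k] [CharP k p] {Y : Type} [Group Y] {N : Type} [Fintype N]
  [DecidableEq N] {ρ : Y →* GL N k} {F : MulAut Y} {G : Subgroup Y} [IsAlgClosed k] {D : Datum p ρ F G}
  {l : ℕ} {w₀ w : D.W} {c : Lbl D}

variable (D) in
/-- The combinatorial input. -/
structure Sw (l : ℕ) (w₀ : D.W) : Prop where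
  lt : Nat.card (CW D w₀) < l ^ 2
  nd : ¬ l ∣ Nat.card (CW D w₀)
  lab : ∀ c, Fx D w₀ c → IsL l c → c ≠ 1 → ∀ v ∈ CW D w₀, Rel D v c c → v ≠ 1 →
    sg D v = -1 ∧ ∃ lam, ClD.Wc D c = Wl D lam ∧ LeviOK D lam w₀ c

variable (f : Fr D) [Fintype ↥(GF F G)]

theorem ip_Phi (h : Fx D w₀ c) (hc : IsL l c) : classInner (RW f w₀ c) (Phi f l w₀ 1) = Nat.card (CW D w₀) := by
  have := Fintype.ofFinite (LS D l w₀)
  have := Fintype.ofFinite (CW D w₀)
  have h1 : ∀ v : CW D w₀, mon (D.Wm (v : D.W)⁻¹)ᵀ c ∈ LS D l w₀ := fun v =>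
    ⟨fx_of_tc v.2 (Cl.rel_iff.2 rfl) h, hc.imp fun j hj => by rw [← map_pow, hj, map_one]⟩
  have h2 := sum_fib (fun v : CW D w₀ => (⟨_, h1 v⟩ : LS D l w₀)) fun _ => 1
  rw [Finset.sum_const, Finset.card_univ, nsmul_eq_mul, mul_one, ← Nat.card_eq_fintype_card] at h2
  rw [Phi_sum f (fx_one w₀), classInner_sum_right, h2]
  refine Finset.sum_congr rfl fun η _ => ?_
  rw [one_mul, mul_one, RW_ip f h η.2.1]
  exact congrArg _ (Nat.card_congr ⟨fun v => ⟨⟨v.1, v.2.1⟩, Subtype.ext (Cl.rel_iff.1 v.2.2)⟩,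
    fun v => ⟨v.1, v.1.2, Cl.rel_iff.2 (congrArg Subtype.val v.2)⟩, fun _ => rfl, fun _ => rfl⟩)

theorem ip_Phi_odd (h : sg D w₀ ≠ sg D w) : classInner (RW f w c) (Phi f l w₀ 1) = 0 := by
  have := Fintype.ofFinite (LS D l w₀)
  rw [Phi_sum f (fx_one w₀), classInner_sum_right]
  exact Finset.sum_eq_zero fun η _ => by_contra fun e => let ⟨_, _, _, h1, _⟩ := rel_of_ne e; h (sg_tc D h1)

theorem sg_tc' {v u u' : D.W} (h : Tc D v (u * w₀) (u' * w₀)) : sg D u = sg D u' := by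
  have h1 := sg_tc D h
  rw [sg_mul, sg_mul] at h1
  exact (mul_right_cancel₀ (left_ne_zero_of_mul_eq_one (sg_mul_self D w₀)) h1).symm

theorem ip_avg_avg (h : Fx D w₀ c) {φ ψ : D.W → ℂ} (hφ : ∀ v u u', Tc D v (u * w₀) (u' * w₀) → φ u = φ u') :
    classInner (avg f (ClD.Wc D c) φ w₀ c) (avg f (ClD.Wc D c) ψ w₀ c) =
      (Nat.card (ClD.Wc D c) : ℂ)⁻¹ * ∑ᶠ u : ClD.Wc D c, conj (ψ u) * φ u := by
  rw [ClD.ip_avg', finsum_congr fun u : ClD.Wc D c => by rw [TF.Mix.ip_ser h hφ u.2]]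

theorem sum_sg {U : Subgroup D.W} {r : D.W} (hr : r ∈ U) (h : sg D r = -1) : ∑ᶠ u : U, sg D u = 0 := by
  have h1 := finsum_comp_equiv (Equiv.mulLeft (⟨r, hr⟩ : U)) (f := fun u : U => sg D u)
  simp only [Equiv.coe_mulLeft, Subgroup.coe_mul, sg_mul, h, neg_mul, one_mul, finsum_neg_distrib] at h1
  linear_combination (-1 / 2 : ℂ) * h1

variable {f}

/-- the value for a character which meets a nontrivial label -/
theorem Sw.val (S : Sw D l w₀) (h : Fx D w₀ c) (hc : IsL l c) (h1 : c ≠ 1) {χ : IrrCharacter ↥(GF F G)}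
    (hχ : classInner χ.1 (RW f w₀ c) ≠ 0) : ∃ a : ℤ, a ∣ 2 ∧
      a * classInner χ.1 (Phi f l w₀ 1) = Nat.card (CW D w₀) := by
  by_cases h2 : ∃ r ∈ CW D w₀, Rel D r c c ∧ r ≠ 1
  · obtain ⟨r, r1, r2, r3⟩ := h2
    obtain ⟨r4, lam, e, L⟩ := S.lab c h hc h1 r r1 r2 r3
    have gA := avg_levi Mts.boxExLin f _ _ _ L
    have gB := avg_leviSt Mts.boxExLin f _ _ _ L
    rw [← e] at gA gB
    have n0 : (Nat.card (ClD.Wc D c) : ℂ) ≠ 0 := Nat.cast_ne_zero.2 Nat.card_pos.ne'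
    have hA : ∀ v u u' : D.W, Tc D v (u * w₀) (u' * w₀) → (fun _ => (1 : ℂ)) u = (fun _ => (1 : ℂ)) u' :=
      fun _ _ _ _ => rfl
    have hB : ∀ v u u' : D.W, Tc D v (u * w₀) (u' * w₀) → sg D u = sg D u' := fun _ _ _ => sg_tc'
    have nA := ip_avg_avg f h (ψ := fun _ => 1) hA
    have nB := ip_avg_avg f h (ψ := sg D) hB
    have nAB := ip_avg_avg f h (ψ := sg D) hA
    have iA := TF.Mix.ip_ser (f := f) h hA (one_mem _)
    have iB := TF.Mix.ip_ser (f := f) h hB (one_mem _)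
    simp only [map_one, mul_one, conj_sg, sg_mul_self, one_mul, sg_one] at nA nB nAB iA iB
    rw [ClD.finsum_const, mul_one, inv_mul_cancel₀ n0] at nA nB
    rw [sum_sg (U := ClD.Wc D c) r2 r4, mul_zero] at nAB
    have nR : classInner (RW f w₀ c) (RW f w₀ c) = 2 := by
      rw [RW_ip f h h, show (2 : ℂ) = (2 : ℕ) by norm_num, Nat.cast_inj, Nat.card_eq_two_iff]
      refine ⟨⟨1, tc_one w₀, rel_one D c⟩, ⟨r, r1, r2⟩, fun e => r3 (congrArg Subtype.val e).symm,
        Set.eq_univ_of_forall fun v => ?_⟩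
      by_cases e1 : v.1 = 1
      · exact .inl (Subtype.ext e1)
      · refine .inr (Subtype.ext (mul_inv_eq_one.1 (by_contra fun e2 => ?_)))
        have e3 := (S.lab c h hc h1 _ (mul_mem (show v.1 ∈ CW D w₀ from v.2.1) (inv_mem r1)) (r2.symm.trans v.2.2) e2).1
        rw [sg_mul, sg_inv, r4, (S.lab c h hc h1 _ v.2.1 v.2.2 e1).1] at e3
        norm_num at e3
    have eR := eq_add nR nA nB nAB iA iB
    have eAB : classInner (avg f (ClD.Wc D c) (fun _ => 1) w₀ c) (Phi f l w₀ 1) =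
        classInner (avg f (ClD.Wc D c) (sg D) w₀ c) (Phi f l w₀ 1) := by
      rw [ClD.ip_avg, ClD.ip_avg]
      refine congrArg _ (finsum_congr fun u => ?_)
      rcases sg_sign D u with e | e
      · rw [e]
      · rw [ip_Phi_odd f fun e1 => ?_, mul_zero, mul_zero]
        rw [sg_mul, e] at e1
        rcases sg_sign D w₀ with e2 | e2 <;> rw [e2] at e1 <;> norm_num at e1
    have eP := ip_Phi f h hc
    rw [eR, classInner_add_left] at eP
    rw [eR, classInner_add_right] at hχ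
    by_cases h3 : classInner χ.1 (avg f (ClD.Wc D c) (fun _ => 1) w₀ c) = 0
    · rw [h3, zero_add] at hχ
      rcases ip_sign gB nB hχ (Phi f l w₀ 1) with e | e
      · exact ⟨2, dvd_rfl, by rw [e, ← eP, eAB]; push_cast; ring⟩
      · exact ⟨-2, by norm_num, by rw [e, ← eP, eAB]; push_cast; ring⟩
    · rcases ip_sign gA nA h3 (Phi f l w₀ 1) with e | e
      · exact ⟨2, dvd_rfl, by rw [e, ← eP, eAB]; push_cast; ring⟩
      · exact ⟨-2, by norm_num, by rw [e, ← eP, eAB]; push_cast; ring⟩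
  · have nR : classInner (RW f w₀ c) (RW f w₀ c) = 1 := by
      rw [RW_ip f h h, Nat.cast_eq_one, Nat.card_eq_one_iff_exists]
      exact ⟨⟨1, tc_one w₀, rel_one D c⟩, fun v => Subtype.ext (by_contra fun h3 => h2 ⟨v, v.2.1, v.2.2, h3⟩)⟩
    rcases ip_sign (RW_gen f w₀ c) nR hχ (Phi f l w₀ 1) with e | e
    · exact ⟨1, one_dvd _, by rw [e, ip_Phi f h hc, Int.cast_one, one_mul]⟩
    · exact ⟨-1, by norm_num, by rw [e, ip_Phi f h hc]; push_cast; ring⟩

theorem Sw.not_dvd (S : Sw D l w₀) (χ : IrrCharacter ↥(GF F G)) {m : ℤ} (hm : mL f l w₀ 1 χ = m) (h0 : m ≠ 0) :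
    ¬ (l : ℤ) ∣ m := by
  intro hd
  by_cases h : ∃ c, Fx D w₀ c ∧ IsL l c ∧ c ≠ 1 ∧ classInner χ.1 (RW f w₀ c) ≠ 0
  · obtain ⟨c, h1, h2, h3, h4⟩ := h
    obtain ⟨a, -, h5⟩ := S.val h1 h2 h3 h4
    rw [← mL_Phi f (fx_one w₀), hm] at h5
    have h6 : a * m = Nat.card (CW D w₀) := by exact_mod_cast h5
    exact S.nd (Int.natCast_dvd_natCast.1 (h6 ▸ hd.mul_left a))
  · have := Fintype.ofFinite (LS D l w₀)
    have h5 : ∀ η : LS D l w₀, η ≠ 1 → classInner χ.1 (RW f w₀ (1 * η)) = 0 := fun η e => by_contra fun e1 =>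
      h ⟨η, η.2.1, η.2.2, fun e2 => e (Subtype.ext e2), by rwa [one_mul] at e1⟩
    rw [mL_sum f (fx_one w₀), Fintype.sum_eq_single (1 : LS D l w₀) h5, one_mul, OneMemClass.coe_one] at hm
    have h1 : classInner (RW f w₀ 1) (RW f w₀ 1) = Nat.card (CW D w₀) := by
      rw [RW_ip f (fx_one w₀) (fx_one w₀)]
      exact congrArg _ (Nat.card_congr (Equiv.subtypeEquivRight fun v => and_iff_left fun z => by rw [map_one, map_one]))
    have h2 := sq_le (RW_gen f w₀ 1) h1 hm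
    have h3 : (l : ℤ) ^ 2 ≤ m ^ 2 := Int.le_of_dvd (sq_pos_of_ne_zero h0) (pow_dvd_pow_of_dvd hd 2)
    have h4 : ((Nat.card (CW D w₀) : ℕ) : ℤ) < (l : ℤ) ^ 2 := by exact_mod_cast S.lt
    omega

/-- **Height zero.** -/
theorem Sw.hz (S : Sw D l w₀) {M : Ideal AlgInt} (hM : IsPModular l M) (hp : l ≠ p) (hS : SylT D l w₀) :
    HZ0 l M ↥(GF F G) := by
  obtain ⟨f⟩ := nonempty_fr D
  exact hz_of_mL f hM hp hS fun χ _ _ hm h0 => S.not_dvd χ hm h0

end Cfsg.Agent.LV.Sm
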