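import Cfsg.Agent.LV.Sm.Mat
import Cfsg.Agent.KZ.G2.Dat

/-!
# LV, small relative Weyl groups: finite checks (helper22)

`Ek` collects the checks for an enumeration of the Weyl group; `Ek.mm`; `ekG`, `ekD` (`l = 5`), `ekB` (`l = 3`).
-/

set_option autoImplicit false
set_option linter.unusedSectionVars false

namespace Cfsg.Agent.LV.Sm

open Cfsg Cfsg.Lie Cfsg.Agent.DL Cfsg.Agent.DL.PP Cfsg.Agent.KZ.Lie Cfsg.Agent.KZ.DatX Cfsg.Agent.KZ.G2 Matrix CoxeterSystem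
  Cfsg.Agent.Nodes.RGDChev Cfsg.Agent.ChevalleyStructure.CoxeterGeomTypes

/-- the data for one element -/
structure Dt where
  a : ℤ
  x : List ℤ
  y : List ℤ
  lam : List ℤ
  U : List (List ℤ)
  U' : List (List ℤ)

/-- the checks for one element -/
def Ok (l r N : ℕ) (e : ℕ → FM) (P v : FM) (s : ℤ) (d : Dt) : Prop :=
  ¬ (l : ℤ) ∣ d.a ∧ d.a • (1 : Matrix (Fin r) (Fin r) ℤ) =
    vecMulVec (toV r d.y) (toV r d.x) + (toM r v - 1) * toM r (gt d.U) + (toM r P - 1) * toM r (gt d.U') ∧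
  (toV r d.x = 0 ∨ s = -1 ∧ toM r P *ᵥ toV r d.lam = toV r d.lam ∧ ∀ n < N,
    ((∀ j, (l : ℤ) ∣ (toV r d.x ᵥ* toM r (e n) - toV r d.x) j) → toM r (e n) *ᵥ toV r d.lam = toV r d.lam) ∧
      (toM r (e n) *ᵥ toV r d.lam = toV r d.lam → toV r d.x ᵥ* toM r (e n) = toV r d.x))

instance decOk (l r N : ℕ) (e : ℕ → FM) (P v : FM) (s : ℤ) (d : Dt) : Decidable (Ok l r N e P v s d) := by
  unfold Ok; infer_instance

/-- the checks -/
structure Ek (C : ChevalleyDatum) (r N : ℕ) (P : FM) (l : ℕ) where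
  e : ℕ → FM
  S : ℕ → FM
  T : ℕ → ℕ → ℕ
  dt : FM → ℤ
  dat : List (ℕ × Dt)
  hS : ∀ i : Fin r, toM r (S i) = sM C r i
  e0 : 0 < N ∧ eqF r (e 0) oneF = true
  clo : ∀ n < N, ∀ i < r, T n i < N ∧ eqF r (mF r (S i) (e n)) (e (T n i)) = true
  hdt : ∀ a, (toM r a).det = dt a
  neg : ∃ n < N, toM r (e n) = -1
  ord : ∃ h, ¬ l ∣ h ∧ toM r P ^ h = 1
  card : ((Finset.range N).filter fun n => eqF r (mF r P (e n)) (mF r (e n) P) = true).card < l ^ 2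
  nd : ¬ l ∣ N
  mem : ∀ n < N, eqF r (mF r P (e n)) (mF r (e n) P) = true → n = 0 ∨ n ∈ dat.map Prod.fst
  lab : ∀ d ∈ dat, Ok l r N e P (e d.1) (dt (e d.1)) d.2
  syl : ∀ n < N, ∀ Q : ℤ, (l : ℤ) ∣ Q - 1 → ∃ x g h, ¬ (l : ℤ) ∣ g ∧
    (Q • toM r (mF r (e n) P) - 1).det = x * g ∧ (Q • toM r P - 1).det = x * h
  oth : ∀ n < N, ∀ Q : ℤ, ¬ (l : ℤ) ∣ Q → ¬ (l : ℤ) ∣ Q - 1 → ¬ (l : ℤ) ∣ Q + 1 →
    ¬ (l : ℤ) ∣ (Q • toM r (mF r (e n) P) - 1).det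

namespace Ek

open Ck

variable {C : ChevalleyDatum} {r : ℕ} {M : CoxeterMatrix (Fin r)} {N l : ℕ} {P : FM} (K : Ek C r N P l) {hp : IsType C r M}
  {p : ℕ} [Fact p.Prime] {k : Type} [Field k] [CharP k p] [IsAlgClosed k] {Mx : Matrix (Fin r) (Fin r) ℤ}
  (X : XF hp p k Mx)

theorem all (w : M.Group) : ∃ n < N, wm X w = toM r (K.e n) := by
  obtain ⟨L, -, h⟩ := X.exists_word w
  rw [show wm X w = (L.map (sM C r)).prod from h]
  clear h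
  induction L with
  | nil => exact ⟨0, K.e0.1, (toM_one.symm.trans (eqF_iff.1 K.e0.2).symm :)⟩
  | cons i L ih =>
    obtain ⟨n, hn, h⟩ := ih
    obtain ⟨h1, h2⟩ := K.clo n hn i i.2
    exact ⟨_, h1, by rw [List.map_cons, List.prod_cons, h, ← K.hS, ← toM_mF, eqF_iff.1 h2]⟩

theorem exists_equiv (hN : Nat.card M.Group = N) : ∃ ε : M.Group ≃ Fin N, ∀ w, wm X w = toM r (K.e (ε w)) := by
  choose n h1 h2 using K.all X
  have : Finite M.Group := X.D.fW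
  have h3 : Function.Bijective fun w => (⟨n w, h1 w⟩ : Fin N) :=
    (Nat.bijective_iff_injective_and_card _).2 ⟨fun w w' h => X.Wm_inj (show wm X w = wm X w' by
      rw [h2, h2, show n w = n w' from congrArg Fin.val h]), by rw [hN, Nat.card_eq_fintype_card, Fintype.card_fin]⟩
  exact ⟨Equiv.ofBijective _ h3, h2⟩

include K in
theorem mm (hN : Nat.card M.Group = N) : Mm X.D (toM r P) l := by
  obtain ⟨ε, hε⟩ := K.exists_equiv X hN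
  refine
    { neg := ?_
      ord := K.ord
      card := (card_eq ε fun x => show toM r P * wm X x = wm X x * toM r P ↔ _ by
        rw [hε x, eqF_iff, toM_mF, toM_mF]).trans_lt K.card
      nd := show ¬ l ∣ Nat.card M.Group by rw [hN]; exact K.nd
      lab := fun (v : M.Group) (h1 : toM r P * wm X v = wm X v * toM r P) (h2 : wm X v ≠ 1) => ?_
      syl := fun u Q hQ => show ∃ x g h, ¬ (l : ℤ) ∣ g ∧ (Q • (wm X u * toM r P) - 1).det = x * g ∧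
          (Q • toM r P - 1).det = x * h by
        rw [hε u, ← toM_mF]
        exact K.syl _ (ε u).2 Q hQ
      oth := fun u Q h1 h2 h3 => show ¬ (l : ℤ) ∣ (Q • (wm X u * toM r P) - 1).det by
        rw [hε u, ← toM_mF]
        exact K.oth _ (ε u).2 Q h1 h2 h3 }
  · obtain ⟨n, hn, h⟩ := K.neg
    exact ⟨ε.symm ⟨n, hn⟩, show wm X _ = -1 by rw [hε, ε.apply_symm_apply, h]⟩
  · rw [hε v] at h1 h2
    rcases K.mem _ (ε v).2 (by rw [eqF_iff, toM_mF, toM_mF, h1]) with h | h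
    · exact (h2 (by rw [h, eqF_iff.1 K.e0.2, toM_one])).elim
    obtain ⟨d, hd, e⟩ := List.mem_map.1 h
    obtain ⟨a1, a2, a3⟩ := K.lab d hd
    have h3 : toM r (K.e d.1) = wm X v := by rw [e, hε]
    rw [← K.hdt, h3] at a3
    rw [h3] at a2
    refine ⟨d.2.a, toV r d.2.x, toV r d.2.y, toV r d.2.lam, toM r (gt d.2.U), toM r (gt d.2.U'), a1, a2,
      a3.imp id fun ⟨b1, b2, b3⟩ => ⟨b1, b2, fun (u : M.Group) => ?_⟩⟩
    have b4 := b3 _ (ε u).2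
    rw [← hε u] at b4
    exact b4

end Ek

theorem det4 (a : FM) : (toM 4 a).det = (cf a).2.2.2 := by
  rw [det_succ_row_zero]
  simp only [Fin.sum_univ_four, det_fin_three, submatrix_apply]
  simp [Fin.succAbove, Fin.succ, Fin.castSucc, Fin.castAdd, Fin.castLE, Fin.lt_def, toM, cf, KZ.G2.m2, KZ.G2.m3]
  ring

theorem det2 (a : FM) : (toM 2 a).det = a 0 0 * a 1 1 - a 0 1 * a 1 0 := det_fin_two _

theorem nd_of {l : ℕ} {Q g : ℤ} (a : ZMod l) (h : (Q : ZMod l) = a → (g : ZMod l) ≠ 0) (hQ : (Q : ZMod l) = a) :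
    ¬ (l : ℤ) ∣ g := fun e => h hQ ((ZMod.intCast_zmod_eq_zero_iff_dvd g l).2 e)

theorem cast_one {l : ℕ} {Q : ℤ} (h : (l : ℤ) ∣ Q - 1) : (Q : ZMod l) = 1 := by
  have h1 := (ZMod.intCast_zmod_eq_zero_iff_dvd _ l).2 h
  rwa [Int.cast_sub, Int.cast_one, sub_eq_zero] at h1

theorem cast_five {Q : ℤ} (h : ¬ ((5 : ℕ) : ℤ) ∣ Q) (h1 : ¬ ((5 : ℕ) : ℤ) ∣ Q - 1) (h2 : ¬ ((5 : ℕ) : ℤ) ∣ Q + 1) :
    (Q : ZMod 5) = 2 ∨ (Q : ZMod 5) = 3 := by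
  rcases (by omega : ((5 : ℕ) : ℤ) ∣ 2 - Q ∨ ((5 : ℕ) : ℤ) ∣ 3 - Q) with e | e
  · exact .inl ((ZMod.intCast_eq_intCast_iff_dvd_sub Q 2 5).2 e)
  · exact .inr ((ZMod.intCast_eq_intCast_iff_dvd_sub Q 3 5).2 e)

/-- trace and determinant -/
def td (a : FM) : ℤ × ℤ := (a 0 0 + a 1 1, a 0 0 * a 1 1 - a 0 1 * a 1 0)

theorem det_td (a : FM) (Q : ℤ) : (Q • toM 2 a - 1).det = 1 - (td a).1 * Q + (td a).2 * Q ^ 2 := det_two a Q

theorem td_one : td oneF = (2, 1) := by decide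

/-! ### type `G₂` -/

theorem tdG : ∀ n < 12, td (mF 2 (eG n) oneF) ∈ [(2, 1), (0, -1), (1, 1), (-1, 1), (-2, 1)] := by decide +kernel

/-- the data -/
def datG : List (ℕ × Dt) := [
  (1, ⟨2, [3, 2], [0, 1], [0, 1], [[-1, 0], [0, 0]], []⟩),
  (2, ⟨-1, [2, 1], [0, -1], [1, 0], [[0, 0], [-1, 0]], []⟩),
  (3, ⟨1, [0, 0], [0, 0], [0, 0], [[-2, -1], [3, 1]], []⟩),
  (4, ⟨1, [0, 0], [0, 0], [0, 0], [[1, 1], [-3, -2]], []⟩),
  (5, ⟨1, [1, 1], [1, 0], [1, -3], [[0, 0], [0, 1]], []⟩),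
  (6, ⟨-1, [3, 1], [0, -1], [1, -1], [[-1, 0], [0, 0]], []⟩),
  (7, ⟨3, [0, 0], [0, 0], [0, 0], [[-3, -1], [3, 0]], []⟩),
  (8, ⟨3, [0, 0], [0, 0], [0, 0], [[0, 1], [-3, -3]], []⟩),
  (9, ⟨1, [0, 1], [0, 1], [1, -2], [[0, 0], [-1, 0]], []⟩),
  (10, ⟨-2, [1, 0], [-2, 0], [2, -3], [[0, 0], [0, 1]], []⟩),
  (11, ⟨4, [0, 0], [0, 0], [0, 0], [[-2, 0], [0, -2]], []⟩)]

/-- the checks -/
def ekG : Ek chevG2 2 12 oneF 5 where
  e := eG
  S := ckG.S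
  T := ckG.T
  dt a := a 0 0 * a 1 1 - a 0 1 * a 1 0
  dat := datG
  hS := ckG.hS
  e0 := ckG.e0
  clo := ckG.clo
  hdt := det2
  neg := ⟨_, ckG.z_eq⟩
  ord := ⟨1, by decide, by rw [pow_one, toM_one]⟩
  card := ckG.n1.trans_lt (by decide)
  nd := by decide
  mem := by decide +kernel
  lab := by decide +kernel
  syl n hn Q hQ := by
    have h := tdG n hn
    have h1 := cast_one hQ
    rw [det_td, det_td, td_one]
    simp only [List.mem_cons, List.not_mem_nil, or_false] at h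
    rcases h with h | h | h | h | h <;> rw [h]
    · exact ⟨_, 1, 1, by decide, (mul_one _).symm, (mul_one _).symm⟩
    · exact ⟨Q - 1, -(Q + 1), Q - 1, nd_of 1 (fun e => by push_cast; rw [e]; decide) h1, by ring, by ring⟩
    all_goals exact ⟨1, _, _, nd_of 1 (fun e => by push_cast; rw [e]; decide) h1, (one_mul _).symm, (one_mul _).symm⟩
  oth n hn Q h1 h2 h3 := by
    have h := tdG n hn
    rw [det_td]
    simp only [List.mem_cons, List.not_mem_nil, or_false] at h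
    rcases cast_five h1 h2 h3 with e | e <;> rcases h with h | h | h | h | h <;> rw [h] <;>
      exact nd_of _ (fun e => by push_cast; rw [e]; decide) e

/-! ### type `B₂` -/

/-- the elements -/
def eB (n : ℕ) : FM := gt (([[[1, 0], [0, 1]], [[-1, 0], [2, 1]], [[1, 1], [0, -1]], [[1, 1], [-2, -1]],
  [[-1, -1], [2, 1]], [[-1, -1], [0, 1]], [[1, 0], [-2, -1]], [[-1, 0], [0, -1]]] : List (List (List ℤ))).getD n [])

theorem tdB : ∀ n < 8, td (mF 2 (eB n) oneF) ∈ [(2, 1), (0, -1), (0, 1), (-2, 1)] := by decide +kernel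

/-- the data -/
def datB : List (ℕ × Dt) := [
  (1, ⟨2, [1, 1], [2, 0], [0, 1], [[0, 1], [0, 0]], []⟩),
  (2, ⟨-1, [2, 1], [0, -1], [1, 0], [[0, 0], [-1, 0]], []⟩),
  (3, ⟨2, [0, 0], [0, 0], [0, 0], [[-2, -1], [2, 0]], []⟩),
  (4, ⟨2, [0, 0], [0, 0], [0, 0], [[0, 1], [-2, -2]], []⟩),
  (5, ⟨1, [0, 1], [0, 1], [1, -2], [[0, 0], [-1, 0]], []⟩),
  (6, ⟨-2, [1, 0], [-2, 0], [1, -1], [[0, 1], [0, 0]], []⟩),
  (7, ⟨4, [0, 0], [0, 0], [0, 0], [[-2, 0], [0, -2]], []⟩)]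

/-- the checks -/
def ekB : Ek chevB2 2 8 oneF 3 where
  e := eB
  S i := gt (([[[-1, 0], [2, 1]], [[1, 1], [0, -1]]] : List (List (List ℤ))).getD i [])
  T n i := (([[1, 2], [0, 3], [4, 0], [5, 1], [2, 6], [3, 7], [7, 4], [6, 5]] : List (List ℕ)).getD n []).getD i 0
  dt a := a 0 0 * a 1 1 - a 0 1 * a 1 0
  dat := datB
  hS := by decide +kernel
  e0 := by decide +kernel
  clo := by decide +kernel
  hdt := det2
  neg := ⟨7, by decide +kernel⟩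
  ord := ⟨1, by decide, by rw [pow_one, toM_one]⟩
  card := by decide +kernel
  nd := by decide
  mem := by decide +kernel
  lab := by decide +kernel
  syl n hn Q hQ := by
    have h := tdB n hn
    have h1 := cast_one hQ
    rw [det_td, det_td, td_one]
    simp only [List.mem_cons, List.not_mem_nil, or_false] at h
    rcases h with h | h | h | h <;> rw [h]
    · exact ⟨_, 1, 1, by decide, (mul_one _).symm, (mul_one _).symm⟩
    · exact ⟨Q - 1, -(Q + 1), Q - 1, nd_of 1 (fun e => by push_cast; rw [e]; decide) h1, by ring, by ring⟩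
    all_goals exact ⟨1, _, _, nd_of 1 (fun e => by push_cast; rw [e]; decide) h1, (one_mul _).symm, (one_mul _).symm⟩
  oth n hn Q h1 h2 h3 := by omega

/-! ### type `D₄` with the triality -/

theorem cfD : ∀ n < 192, cf (mF 4 (eD n) pD) ∈
    [(1, 0, 1, 1), (1, 0, -1, -1), (-1, 0, 1, -1), (0, -1, 0, 1), (2, 3, 2, 1), (-1, 0, -1, 1), (-2, 3, -2, 1)] := by
  decide +kernel

/-- the data -/
def datD : List (ℕ × Dt) := [
  (2, ⟨-2, [2, 3, 2, 2], [-1, 0, 0, 0], [1, 0, 1, 1],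
    [[0, 0, 0, 0], [0, 1, 0, 0], [0, 0, 0, 0], [0, 0, 0, 0]],
    [[0, -2, -2, -2], [0, 0, 0, 0], [0, -1, 0, -2], [0, 0, 0, 0]]⟩),
  (18, ⟨1, [1, 2, 1, 1], [1, 0, 0, 0], [0, 1, 0, 0],
    [[0, 1, 0, 0], [0, 0, 0, 0], [0, 0, 0, 0], [0, 0, 0, 0]],
    [[0, 0, 1, 1], [0, 0, 0, 0], [0, 0, 0, 1], [0, 0, 0, 0]]⟩),
  (37, ⟨1, [0, 0, 0, 0], [0, 0, 0, 0], [0, 0, 0, 0],
    [[-2, -3, -2, -2], [1, 1, 1, 1], [0, 0, 0, 0], [0, 0, 0, 0]],
    [[2, 4, 3, 3], [0, 0, 0, 0], [1, 2, 1, 2], [0, 0, 0, 0]]⟩),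
  (41, ⟨1, [0, 0, 0, 0], [0, 0, 0, 0], [0, 0, 0, 0],
    [[1, 3, 1, 1], [-1, -2, -1, -1], [0, 0, 0, 0], [0, 0, 0, 0]],
    [[-2, -4, -1, -1], [0, 0, 0, 0], [-1, -2, -1, 0], [0, 0, 0, 0]]⟩),
  (68, ⟨-1, [1, 1, 1, 1], [-1, 0, 0, 0], [1, -1, 1, 1],
    [[0, 1, 0, 0], [0, 0, 0, 0], [0, 0, 0, 0], [0, 0, 0, 0]],
    [[0, -2, -1, -1], [0, 0, 0, 0], [0, -1, 0, -1], [0, 0, 0, 0]]⟩),
  (123, ⟨1, [1, 3, 1, 1], [1, 0, 0, 0], [1, -3, 1, 1],
    [[0, 1, 0, 0], [0, 0, 0, 0], [0, 0, 0, 0], [0, 0, 0, 0]],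
    [[0, 2, 1, 1], [0, 0, 0, 0], [0, 1, 0, 1], [0, 0, 0, 0]]⟩),
  (150, ⟨3, [0, 0, 0, 0], [0, 0, 0, 0], [0, 0, 0, 0],
    [[-3, -3, -3, -3], [1, 0, 1, 1], [0, 0, 0, 0], [0, 0, 0, 0]],
    [[-2, 0, 1, 1], [0, 0, 0, 0], [-1, 0, -1, 2], [0, 0, 0, 0]]⟩),
  (154, ⟨3, [0, 0, 0, 0], [0, 0, 0, 0], [0, 0, 0, 0],
    [[0, 3, 0, 0], [-1, -3, -1, -1], [0, 0, 0, 0], [0, 0, 0, 0]],
    [[-2, 0, 1, 1], [0, 0, 0, 0], [-1, 0, -1, 2], [0, 0, 0, 0]]⟩),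
  (173, ⟨-1, [1, 0, 1, 1], [-1, 0, 0, 0], [2, -3, 2, 2],
    [[0, 1, 0, 0], [0, 0, 0, 0], [0, 0, 0, 0], [0, 0, 0, 0]],
    [[0, 0, -1, -1], [0, 0, 0, 0], [0, 0, 0, -1], [0, 0, 0, 0]]⟩),
  (189, ⟨2, [0, 1, 0, 0], [0, 2, 0, 0], [1, -2, 1, 1],
    [[-1, 0, -1, 2], [0, 0, 0, -2], [0, 0, 0, 0], [0, 0, 0, 0]],
    [[0, 0, 2, -2], [0, 0, 0, 0], [0, 0, 0, 0], [0, 0, 0, 0]]⟩),
  (191, ⟨4, [0, 0, 0, 0], [0, 0, 0, 0], [0, 0, 0, 0],
    [[-2, 0, -2, -2], [0, -2, 0, 0], [0, 0, 0, 0], [0, 0, 0, 0]],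
    [[0, 0, 4, 4], [0, 0, 0, 0], [0, 0, 0, 4], [0, 0, 0, 0]]⟩)]

/-- the checks -/
def ekD : Ek chevD4 4 192 pD 5 where
  e := eD
  S := ckD.S
  T := ckD.T
  dt a := (cf a).2.2.2
  dat := datD
  hS := ckD.hS
  e0 := ckD.e0
  clo := ckD.clo
  hdt := det4
  neg := ⟨_, ckD.z_eq⟩
  ord := ⟨3, by decide, by rw [pow_three']; decide +kernel⟩
  card := ckD.n1.trans_lt (by decide)
  nd := by decide
  mem := by decide +kernel
  lab := by decide +kernel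
  syl n hn Q hQ := by
    have h := cfD n hn
    have h1 := cast_one hQ
    rw [det_four, det_four, cf_pD]
    simp only [List.mem_cons, List.not_mem_nil, or_false] at h
    rcases h with h | h | h | h | h | h | h <;> rw [h]
    · exact ⟨_, 1, 1, by decide, (mul_one _).symm, (mul_one _).symm⟩
    · exact ⟨Q - 1, -(Q ^ 3 + 1), Q ^ 3 - 1, nd_of 1 (fun e => by push_cast; rw [e]; decide) h1, by ring, by ring⟩
    · exact ⟨Q ^ 3 - 1, -(Q + 1), Q - 1, nd_of 1 (fun e => by push_cast; rw [e]; decide) h1, by ring, by ring⟩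
    all_goals exact ⟨1, _, _, nd_of 1 (fun e => by push_cast; rw [e]; decide) h1, (one_mul _).symm, (one_mul _).symm⟩
  oth n hn Q h1 h2 h3 := by
    have h := cfD n hn
    rw [det_four]
    simp only [List.mem_cons, List.not_mem_nil, or_false] at h
    rcases cast_five h1 h2 h3 with e | e <;> rcases h with h | h | h | h | h | h | h <;> rw [h] <;>
      exact nd_of _ (fun e => by push_cast; rw [e]; decide) e

end Cfsg.Agent.LV.Sm
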