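import Cfsg.Agent.LV.Sm.Gen
import Cfsg.Agent.LV.Blk.Sit
import Cfsg.Agent.KZ.G2.Chr
import Cfsg.Agent.KZ.Red.U

/-!
# LV, small relative Weyl groups: the criterion in terms of matrices (helper22)

`Mm D P l` : conditions on the matrices of the Weyl group, the Frobenius matrix is a multiple of `P`; `Mm.hz`.
-/

set_option autoImplicit false
set_option linter.unusedSectionVars false

namespace Cfsg.Agent.LV.Sm

open Cfsg Cfsg.Agent.DL Cfsg.Agent.DL.PP Cfsg.Agent.KZ Cfsg.Agent.KZ.Lie Matrix Cfsg.Agent.LV.Blk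

theorem eq_one_of_zpow {A : Type*} [Group A] {l j : ℕ} (hl : l.Prime) {x : A} (h : x ^ l ^ j = 1) {z : ℤ}
    (hz : ¬ (l : ℤ) ∣ z) (h1 : x ^ z = 1) : x = 1 := by
  obtain ⟨a, b, hab⟩ : IsCoprime ((l : ℤ) ^ j) z :=
    ((Nat.prime_iff_prime_int.1 hl).irreducible.coprime_iff_not_dvd.2 hz).pow_left
  rw [← zpow_one x, ← hab, _root_.zpow_add, mul_comm a, mul_comm b, _root_.zpow_mul, _root_.zpow_mul, h1, ← Nat.cast_pow,
    zpow_natCast, h, _root_.one_zpow, _root_.one_zpow, one_mul]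

theorem fact_le {l : ℕ} {a b x g h : ℤ} (hb : b ≠ 0) (hg : ¬ (l : ℤ) ∣ g) (e1 : a = x * g) (e2 : b = x * h) :
    a.natAbs.factorization l ≤ b.natAbs.factorization l := by
  have hx : x.natAbs ≠ 0 := fun e => hb (by rw [e2, Int.natAbs_eq_zero.1 e, zero_mul])
  have hh : h.natAbs ≠ 0 := fun e => hb (by rw [e2, Int.natAbs_eq_zero.1 e, mul_zero])
  have hg0 : g.natAbs ≠ 0 := fun e => hg (by rw [Int.natAbs_eq_zero.1 e]; exact dvd_zero _)
  rw [e1, e2, Int.natAbs_mul, Int.natAbs_mul x, Nat.factorization_mul hx hg0, Nat.factorization_mul hx hh,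
    Finsupp.add_apply, Finsupp.add_apply,
    Nat.factorization_eq_zero_of_not_dvd (n := g.natAbs) fun e => hg (Int.natCast_dvd.2 e)]
  omega

variable {p : ℕ} [Fact p.Prime] {k : Type} [Field k] [CharP k p] {Y : Type} [Group Y] {N : Type} [Fintype N]
  [DecidableEq N] {ρ : Y →* GL N k} {F : MulAut Y} {G : Subgroup Y} [IsAlgClosed k] {D : Datum p ρ F G}

variable (D) in
/-- conditions on the matrices -/
structure Mm (P : Matrix D.R D.R ℤ) (l : ℕ) : Prop where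
  neg : ∃ z, D.Wm z = -1
  ord : ∃ h, ¬ l ∣ h ∧ P ^ h = 1
  card : Nat.card {v // P * D.Wm v = D.Wm v * P} < l ^ 2
  nd : ¬ l ∣ Nat.card D.W
  lab : ∀ v, P * D.Wm v = D.Wm v * P → D.Wm v ≠ 1 → ∃ (a : ℤ) (x y lam : D.R → ℤ) (U U' : Matrix D.R D.R ℤ),
    ¬ (l : ℤ) ∣ a ∧ a • (1 : Matrix D.R D.R ℤ) = vecMulVec y x + (D.Wm v - 1) * U + (P - 1) * U' ∧
    (x = 0 ∨ (D.Wm v).det = -1 ∧ P *ᵥ lam = lam ∧ ∀ u,
      ((∀ j, (l : ℤ) ∣ (x ᵥ* D.Wm u - x) j) → D.Wm u *ᵥ lam = lam) ∧ (D.Wm u *ᵥ lam = lam → x ᵥ* D.Wm u = x))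
  syl : ∀ u (Q : ℤ), (l : ℤ) ∣ Q - 1 → ∃ x g h, ¬ (l : ℤ) ∣ g ∧
    (Q • (D.Wm u * P) - 1).det = x * g ∧ (Q • P - 1).det = x * h
  oth : ∀ u (Q : ℤ), ¬ (l : ℤ) ∣ Q → ¬ (l : ℤ) ∣ Q - 1 → ¬ (l : ℤ) ∣ Q + 1 → ¬ (l : ℤ) ∣ (Q • (D.Wm u * P) - 1).det

namespace Mm

variable {P : Matrix D.R D.R ℤ} {l : ℕ} (C : Mm D P l) (hl : l.Prime) {w₀ : D.W} {Q : ℤ}
  (h0 : D.Wm w₀ * D.Mx = Q • P) (hQ : (l : ℤ) ∣ Q - 1)

include hl hQ in
theorem Q_ne : Q ≠ 0 := fun e => by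
  rw [e, zero_sub, dvd_neg] at hQ
  exact hl.one_lt.ne' (by exact_mod_cast Int.eq_one_of_dvd_one (Int.natCast_nonneg l) hQ)

include hl h0 hQ in
theorem mem_iff {v : D.W} : v ∈ CW D w₀ ↔ P * D.Wm v = D.Wm v * P := by
  show Tc D v w₀ w₀ ↔ _
  rw [G2.tc_iff, h0, smul_mul_assoc, mul_smul_comm]
  exact (smul_right_injective _ (Q_ne hl hQ)).eq_iff

include C hl h0 hQ

/-- the labels of `l`-power order are fixed by `P` -/
theorem fixP {c : Lbl D} (h1 : Fx D w₀ c) (h2 : IsL l c) (v : D.R → ℤ) : chr (P *ᵥ v) c = chr v c := by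
  obtain ⟨j, hj⟩ := h2
  obtain ⟨h, h3, h4⟩ := C.ord
  have a1 : ∀ v, chr (P *ᵥ v) c ^ Q = chr v c := fun v => by rw [← DL.chr_zsmul, ← smul_mulVec, ← h0, h1]
  have a2 : ∀ (n : ℕ) v, chr (P ^ n *ᵥ v) c ^ Q ^ n = chr v c := fun n => by
    induction n with
    | zero => exact fun v => by rw [pow_zero, pow_zero, one_mulVec, zpow_one]
    | succ n ih => exact fun v => by rw [pow_succ P, ← mulVec_mulVec, pow_succ Q, _root_.zpow_mul, ih, a1]
  have a3 : chr (P *ᵥ v) c ^ (Q - 1) = 1 := by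
    refine eq_one_of_zpow (j := j) hl (by rw [← zpow_natCast, ← _root_.zpow_mul, mul_comm, _root_.zpow_mul, zpow_natCast,
      ← map_pow, hj, map_one, _root_.one_zpow]) (z := ∑ i ∈ Finset.range h, Q ^ i) (fun e => h3 ?_) ?_
    · have b : (l : ℤ) ∣ ∑ i ∈ Finset.range h, (Q ^ i - 1) :=
        Finset.dvd_sum fun i _ => hQ.trans (sub_one_dvd_pow_sub_one Q i)
      rw [Finset.sum_sub_distrib, Finset.sum_const, Finset.card_range, nsmul_eq_mul, mul_one] at b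
      exact Int.natCast_dvd_natCast.1 ((Int.dvd_iff_dvd_of_dvd_sub b).1 e)
    · have b := a2 h (P *ᵥ v)
      rw [h4, one_mulVec] at b
      rw [← _root_.zpow_mul, mul_geom_sum, _root_.zpow_sub_one, b, mul_inv_cancel]
  rw [_root_.zpow_sub_one, mul_inv_eq_one] at a3
  rw [← a3, a1]

theorem sw : Sw D l w₀ where
  lt := (Nat.card_congr (Equiv.subtypeEquivRight fun _ => mem_iff hl h0 hQ)).trans_lt C.card
  nd h := C.nd (h.trans (Subgroup.card_subgroup_dvd_card _))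
  lab c h1 h2 h3 v h4 h5 h6 := by
    obtain ⟨a, x, y, lam, U, U', e1, e2, e3⟩ :=
      C.lab v ((mem_iff hl h0 hQ).1 h4) fun e => h6 (D.Wm_injective (e.trans D.Wm_one.symm))
    have a1 : ∀ z, chr ((D.Wm v - 1) *ᵥ z) c = 1 := fun z => by
      rw [sub_mulVec, one_mulVec, DL.chr_sub, h5, mul_inv_cancel]
    have a2 : ∀ z, chr ((P - 1) *ᵥ z) c = 1 := fun z => by
      rw [sub_mulVec, one_mulVec, DL.chr_sub, C.fixP hl h0 hQ h1 h2, mul_inv_cancel]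
    obtain ⟨j, hj⟩ := h2
    obtain ⟨s, b, hb⟩ : IsCoprime ((l : ℤ) ^ j) a :=
      ((Nat.prime_iff_prime_int.1 hl).irreducible.coprime_iff_not_dvd.2 e1).pow_left
    have a3 : ∀ z, chr z c ^ l ^ j = 1 := fun z => by rw [← map_pow, hj, map_one]
    have a4 : c = Cl.cx D x (chr y c ^ b) := eq_of_chr D fun z => by
      have b1 := congrArg (fun B => chr (B *ᵥ z) c) e2
      simp only [smul_mulVec, one_mulVec, add_mulVec, DL.chr_add, ← mulVec_mulVec, a1, a2, DL.chr_zsmul, mul_one,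
        vecMulVec_mulVec, op_smul_eq_smul] at b1
      rw [Cl.chr_cx, ← _root_.zpow_mul, mul_comm b, _root_.zpow_mul, ← b1, ← _root_.zpow_mul, mul_comm a,
        eq_sub_of_add_eq' hb, _root_.zpow_sub, mul_comm s, _root_.zpow_mul, ← Nat.cast_pow, zpow_natCast, a3,
        _root_.one_zpow, inv_one, mul_one, zpow_one]
    have a5 : (chr y c ^ b) ^ l ^ j = 1 := by
      rw [← zpow_natCast, ← _root_.zpow_mul, mul_comm, _root_.zpow_mul, zpow_natCast, a3, _root_.one_zpow]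
    generalize chr y c ^ b = ξ at a4 a5
    subst a4
    rcases e3 with rfl | ⟨e3, e4, e5⟩
    · exact (h3 (funext fun i => zpow_zero ξ)).elim
    have a6 : ξ ≠ 1 := fun e => h3 (funext fun i => by rw [e]; exact _root_.one_zpow _)
    refine ⟨by rw [sg, e3]; norm_num, lam, Subgroup.ext fun u => ⟨fun h => (e5 u).1 fun i => by_contra fun e => ?_,
      fun h => Cl.rel_cx ((e5 u).2 h) ξ⟩, Cl.leviOK_of (Q_ne hl hQ) (by rw [h0, smul_mulVec, e4])
        (fun u hu => (e5 u).2 hu) h1⟩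
    have b1 := h (Pi.single i 1)
    rw [Cl.chr_cx, Cl.chr_cx, dotProduct_mulVec, dotProduct_single, dotProduct_single, mul_one, mul_one] at b1
    exact a6 (eq_one_of_zpow hl a5 e (by rw [Pi.sub_apply, _root_.zpow_sub, b1, mul_inv_cancel]))

theorem sylT [Fintype ↥(GF F G)] (hp : l ≠ p) : SylT D l w₀ := by
  refine sylT_of_le (fun w => ?_) (exists_sylT D hl hp C.nd)
  obtain ⟨x, g, h, h1, h2, h3⟩ := C.syl (w * w₀⁻¹) Q hQ
  refine fact_le (det_ne_zero D w₀) h1 ?_ (by rw [h0, h3])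
  rw [← h2, ← mul_smul_comm, ← h0, ← mul_assoc, ← D.Wm_mul, inv_mul_cancel_right]

omit hl h0 hQ

/-- **Height zero.** -/
theorem hz [Fintype ↥(GF F G)] {M : Ideal AlgInt} (hM : IsPModular l M) (hp : l ≠ p) {q : ℤ} (hq : ¬ (l : ℤ) ∣ q)
    (h : D.Mx = q • P) : HZ0 l M ↥(GF F G) := by
  have hl := hM.1
  by_cases h1 : (l : ℤ) ∣ q - 1
  · have h0 : D.Wm 1 * D.Mx = q • P := by rw [D.Wm_one, one_mul, h]
    exact (C.sw hl h0 h1).hz hM hp (C.sylT hl h0 h1 hp)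
  by_cases h2 : (l : ℤ) ∣ q + 1
  · obtain ⟨z, hz⟩ := C.neg
    have h0 : D.Wm z * D.Mx = (-q) • P := by rw [hz, h, neg_mul, one_mul, neg_smul]
    have h3 : (l : ℤ) ∣ -q - 1 := by rwa [← neg_add', dvd_neg]
    exact (C.sw hl h0 h3).hz hM hp (C.sylT hl h0 h3 hp)
  obtain ⟨w, hw⟩ := exists_sylT D hl hp C.nd
  have h3 := C.oth w q hq h1 h2
  rw [← mul_smul_comm, ← h, Int.natCast_dvd] at h3
  rw [SylT, ordT, Nat.factorization_eq_zero_of_not_dvd h3, Nat.factorization_eq_zero_iff] at hw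
  intro χ _ hd
  rcases hw with e | e | e
  · exact e hl
  · exact e (hd.trans (Res.deg_dvd_card χ))
  · exact Nat.card_pos.ne' e

end Mm

end Cfsg.Agent.LV.Sm
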